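import Groth.Agent.McCoy.Basic
import Mathlib

/-!
# Ranks and determinantal ideals of exact complexes of finite free modules
-/

set_option autoImplicit false

universe u

open Matrix

namespace Groth.Agent.BEForward

variable {R : Type u} [CommRing R]

/-- An exact complex `0 → R^{n e} → ⋯ → R^{n 0}`. -/
structure IsExactCx (n : ℕ → ℕ) (e : ℕ) (A : (i : ℕ) → Matrix (Fin (n i)) (Fin (n (i + 1))) R) : Prop where
  comp : ∀ i, A i * A (i + 1) = 0
  top : A e = 0
  ex : ∀ k, k < e → ∀ z, A k *ᵥ z = 0 → ∃ v, A (k + 1) *ᵥ v = z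

/-- The expected ranks, counted from the top. -/
def rkAux (n : ℕ → ℕ) : ℕ → ℕ → ℕ
  | 0, _ => 0
  | d + 1, k => n (k + 1) - rkAux n d (k + 1)

theorem rkAux_shift (n : ℕ → ℕ) : ∀ d k, rkAux (fun i => n (i + 1)) d k = rkAux n d (k + 1)
  | 0, _ => rfl
  | d + 1, k => by rw [rkAux, rkAux, rkAux_shift n d (k + 1)]

/-- A unit minor of size `r` whose columns span the image. -/
def Good {p q : ℕ} (M : Matrix (Fin p) (Fin q) R) (r : ℕ) : Prop :=
  ∃ (f : Fin r → Fin p) (g : Fin r → Fin q), IsUnit (M.submatrix f g).det ∧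
    ∀ v, ∃ w, M.submatrix id g *ᵥ w = M *ᵥ v

theorem minorIdeal_eq_bot_of_cols {p q r : ℕ} (M : Matrix (Fin p) (Fin q) R) (g : Fin r → Fin q)
    (h : ∀ v, ∃ w, M.submatrix id g *ᵥ w = M *ᵥ v) (r' : ℕ) (hr : r < r') : CAlgX.minorIdeal M r' = ⊥ := by
  classical
  rw [CAlgX.minorIdeal, Ideal.span_eq_bot]
  rintro _ ⟨⟨F, G⟩, rfl⟩
  choose w hw using fun j : Fin r' => h (Pi.single (G j) 1)
  let P : Matrix (Fin r') (Fin r) R := M.submatrix F g
  let Q : Matrix (Fin r) (Fin r') R := Matrix.of fun i j => w j i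
  have hPQ : M.submatrix F G = P * Q := by
    ext i j
    have := congrFun (hw j) (F i)
    rw [Matrix.mulVec_single_one] at this
    exact (this.symm : M (F i) (G j) = ∑ l, M (F i) (g l) * w j l)
  let ε : Fin r' ≃ Fin r ⊕ Fin (r' - r) := (finCongr (by omega)).trans finSumFinEquiv.symm
  let P' : Matrix (Fin r') (Fin r') R := (Matrix.fromCols P 0).submatrix id ε
  let Q' : Matrix (Fin r') (Fin r') R := (Matrix.fromRows Q 0).submatrix ε id
  have hPQ' : P * Q = P' * Q' := by
    rw [Matrix.submatrix_mul_equiv, Matrix.fromCols_mul_fromRows, Matrix.zero_mul, add_zero, Matrix.submatrix_id_id]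
  show (M.submatrix F G).det = 0
  rw [hPQ, hPQ', Matrix.det_mul, Matrix.det_eq_zero_of_column_eq_zero (ε.symm (Sum.inr ⟨0, by omega⟩)) (fun i => by
    simp [P']), zero_mul]

/-- Over a local ring of depth zero every stage has a spanning unit minor of the expected size. -/
theorem good_of_socle [IsLocalRing R] {s : R} (hs : s ≠ 0) (hms : ∀ r ∈ IsLocalRing.maximalIdeal R, r * s = 0)
    {n : ℕ → ℕ} {e : ℕ} {A : (i : ℕ) → Matrix (Fin (n i)) (Fin (n (i + 1))) R} (hA : IsExactCx n e A) :
    ∀ d k, k + d = e → Good (A k) (rkAux n d k) := by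
  classical
  intro d
  induction d with
  | zero =>
    intro k hk
    obtain rfl : k = e := by omega
    refine ⟨Fin.elim0, Fin.elim0, ?_, fun v => ⟨0, ?_⟩⟩
    · show IsUnit (Matrix.det (n := Fin 0) _)
      rw [Matrix.det_fin_zero]; exact isUnit_one
    · rw [hA.top, Matrix.mulVec_zero, Matrix.zero_mulVec]
  | succ d ih =>
    intro k hk
    obtain ⟨f', g', hu, hspan⟩ := ih (k + 1) (by omega)
    have hf' : Function.Injective f' := by
      intro i j hij
      by_contra hne
      exact hu.ne_zero (Matrix.det_zero_of_row_eq hne (by funext l; simp [hij]))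
    let C : Finset (Fin (n (k + 1))) := (Finset.univ.image f')ᶜ
    have hC : C.card = rkAux n (d + 1) k := by
      rw [Finset.card_compl, Finset.card_image_of_injective _ hf', Finset.card_univ, Fintype.card_fin, Fintype.card_fin]
      rfl
    let g : Fin (rkAux n (d + 1) k) → Fin (n (k + 1)) := C.orderEmbOfFin hC
    have hg : Function.Injective g := (C.orderEmbOfFin hC).injective
    have hgC : ∀ i, g i ∉ Set.range f' := by
      rintro i ⟨j, hj⟩
      have := C.orderEmbOfFin_mem hC i
      simp only [C, Finset.mem_compl, Finset.mem_image, Finset.mem_univ, true_and] at this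
      exact this ⟨j, hj⟩
    let E : Matrix (Fin (n (k + 1))) (Fin (rkAux n (d + 1) k)) R :=
      (1 : Matrix (Fin (n (k + 1))) (Fin (n (k + 1))) R).submatrix id g
    have hME : A k * E = (A k).submatrix id g := by
      ext i j; simp [E, Matrix.mul_apply, Matrix.one_apply]
    have hE : ∀ (w : Fin (rkAux n (d + 1) k) → R) (i), (E *ᵥ w) (g i) = w i := by
      intro w i
      simp [E, Matrix.mulVec, dotProduct, Matrix.one_apply, hg.eq_iff]
    have hE0 : ∀ (w : Fin (rkAux n (d + 1) k) → R) (j), (∀ i, g i ≠ j) → (E *ᵥ w) j = 0 := by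
      intro w j hj
      simp [E, Matrix.mulVec, dotProduct, Matrix.one_apply, fun i => (hj i).symm]
    -- injectivity on the complementary columns
    have hinj : Function.Injective ((A k).submatrix id g).mulVecLin := by
      rw [injective_iff_map_eq_zero]
      intro w hw
      obtain ⟨v, hv⟩ := hA.ex k (by omega) (E *ᵥ w) (by rw [Matrix.mulVec_mulVec, hME]; exact hw)
      obtain ⟨c, hc⟩ := hspan v
      have hzero : ((A (k + 1)).submatrix f' g') *ᵥ c = 0 := by
        funext j
        have h1 : (((A (k + 1)).submatrix id g') *ᵥ c) (f' j) = (E *ᵥ w) (f' j) := by rw [hc, hv]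
        exact h1.trans (hE0 w _ fun i hi => hgC i ⟨j, hi.symm⟩)
      have hc0 : c = 0 := by
        have := congrArg (((A (k + 1)).submatrix f' g')⁻¹ *ᵥ ·) hzero
        simpa [Matrix.mulVec_mulVec, Matrix.nonsing_inv_mul _ hu] using this
      funext i
      rw [Pi.zero_apply, ← hE w i, ← hv, ← hc, hc0, Matrix.mulVec_zero, Pi.zero_apply]
    -- a unit minor
    have htop : CAlgX.minorIdeal ((A k).submatrix id g) (rkAux n (d + 1) k) = ⊤ := by
      by_contra hne
      have h1 : s ∈ (CAlgX.minorIdeal ((A k).submatrix id g) (rkAux n (d + 1) k)).annihilator := by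
        rw [Submodule.mem_annihilator]
        intro y hy
        rw [smul_eq_mul, mul_comm]
        exact hms y (IsLocalRing.le_maximalIdeal hne hy)
      rw [(McCoy.injective_iff _).1 hinj, Ideal.mem_bot] at h1
      exact hs h1
    obtain ⟨f, hf⟩ : ∃ f, IsUnit (((A k).submatrix id g).submatrix f id).det := by
      by_contra! hall
      rw [McCoy.minorIdeal_max_eq_span] at htop
      have : Ideal.span (Set.range fun f : Fin (rkAux n (d + 1) k) → Fin (n k) =>
          (((A k).submatrix id g).submatrix f id).det) ≤ IsLocalRing.maximalIdeal R :=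
        Ideal.span_le.2 (by rintro _ ⟨f, rfl⟩; exact (IsLocalRing.mem_maximalIdeal _).2 (hall f))
      exact (IsLocalRing.maximalIdeal.isMaximal R).ne_top (top_le_iff.1 (htop ▸ this))
    refine ⟨f, g, hf, fun z => ?_⟩
    let c := ((A (k + 1)).submatrix f' g')⁻¹ *ᵥ (z ∘ f')
    let y := z - (A (k + 1)).submatrix id g' *ᵥ c
    refine ⟨fun i => y (g i), ?_⟩
    have hy : E *ᵥ (fun i => y (g i)) = y := by
      funext j
      by_cases hj : ∃ i, g i = j
      · obtain ⟨i, rfl⟩ := hj
        exact hE _ i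
      · rw [hE0 _ _ (fun i hi => hj ⟨i, hi⟩)]
        have hjC : j ∉ C := fun hm => hj (by
          have : j ∈ Set.range (C.orderEmbOfFin hC) := by rw [Finset.range_orderEmbOfFin]; exact hm
          exact this)
        simp only [C, Finset.mem_compl, not_not, Finset.mem_image, Finset.mem_univ, true_and] at hjC
        obtain ⟨i, rfl⟩ := hjC
        show 0 = z (f' i) - (((A (k + 1)).submatrix f' g') *ᵥ c) i
        rw [Matrix.mulVec_mulVec, Matrix.mul_nonsing_inv _ hu, Matrix.one_mulVec, Function.comp_apply, sub_self]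
    rw [← hME, ← Matrix.mulVec_mulVec, hy, Matrix.mulVec_sub, Matrix.mulVec_mulVec,
      show A k * (A (k + 1)).submatrix id g' = (A k * (A (k + 1))).submatrix id g' from rfl, hA.comp k, Matrix.submatrix_zero]
    simp

theorem IsExactCx.map_isLocalization {n : ℕ → ℕ} {e : ℕ} {A : (i : ℕ) → Matrix (Fin (n i)) (Fin (n (i + 1))) R}
    (hA : IsExactCx n e A) {L : Type u} [CommRing L] [Algebra R L] (M : Submonoid R) [IsLocalization M L] :
    IsExactCx n e (fun i => (A i).map (algebraMap R L)) := by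
  classical
  refine ⟨fun i => ?_, ?_, fun k hk z hz => ?_⟩
  · rw [← Matrix.map_mul, hA.comp, Matrix.map_zero _ (map_zero _)]
  · rw [hA.top, Matrix.map_zero _ (map_zero _)]
  · obtain ⟨b, hb⟩ := IsLocalization.exist_integer_multiples_of_finite M z
    choose z₀ hz₀ using hb
    have hz0 : ∀ i, algebraMap R L ((A k *ᵥ z₀) i) = 0 := by
      intro i
      rw [RingHom.map_mulVec, show algebraMap R L ∘ z₀ = algebraMap R L (b : R) • z from funext fun j => by
        show algebraMap R L (z₀ j) = _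
        rw [hz₀, Algebra.smul_def]; rfl, Matrix.mulVec_smul, hz, smul_zero, Pi.zero_apply]
    choose c hc using fun i => (IsLocalization.map_eq_zero_iff M L _).1 (hz0 i)
    let C : M := ∏ i, c i
    obtain ⟨v, hv⟩ := hA.ex k hk ((C : R) • z₀) (funext fun i => by
      obtain ⟨w, hw⟩ := Finset.dvd_prod_of_mem c (Finset.mem_univ i)
      have hCi : (C : R) = (c i : R) * (w : R) := congrArg Subtype.val hw
      rw [Matrix.mulVec_smul, Pi.smul_apply, Pi.zero_apply, smul_eq_mul, hCi, mul_right_comm, hc i, zero_mul])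
    obtain ⟨u, hu⟩ := IsLocalization.map_units L (C * b)
    refine ⟨(↑u⁻¹ : L) • (algebraMap R L ∘ v), ?_⟩
    have h2 : (A (k + 1)).map (algebraMap R L) *ᵥ (algebraMap R L ∘ v) = (u : L) • z := by
      funext i
      rw [← RingHom.map_mulVec, hv, Pi.smul_apply, smul_eq_mul, map_mul, hz₀, Algebra.smul_def,
        Pi.smul_apply, smul_eq_mul, hu, Submonoid.coe_mul, map_mul, mul_assoc]
    rw [Matrix.mulVec_smul, h2, smul_smul, Units.inv_mul, one_smul]

theorem det_submatrix_map {L : Type u} [CommRing L] (φ : R →+* L) {p q r : ℕ} (M : Matrix (Fin p) (Fin q) R)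
    (f : Fin r → Fin p) (g : Fin r → Fin q) : φ (M.submatrix f g).det = ((M.map φ).submatrix f g).det := by
  rw [RingHom.map_det, RingHom.mapMatrix_apply, Matrix.submatrix_map]

variable [IsNoetherianRing R]

/-- At an associated prime. -/
theorem good_at_ass {n : ℕ → ℕ} {e : ℕ} {A : (i : ℕ) → Matrix (Fin (n i)) (Fin (n (i + 1))) R}
    (hA : IsExactCx n e A) (q : Ideal R) (hq : IsAssociatedPrime q R) [q.IsPrime] (d k : ℕ) (hk : k + d = e) :
    Good ((A k).map (algebraMap R (Localization.AtPrime q))) (rkAux n d k) := by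
  obtain ⟨-, y, hy⟩ := isAssociatedPrime_iff.1 hq
  let L := Localization.AtPrime q
  have hy0 : algebraMap R L y ≠ 0 := by
    intro h0
    obtain ⟨t, ht⟩ := (IsLocalization.map_eq_zero_iff q.primeCompl L y).1 h0
    refine t.2 (SetLike.le_def.1 hy.ge ?_)
    rw [Submodule.mem_colon_singleton, smul_eq_mul, ht]
    exact Submodule.zero_mem _
  refine good_of_socle hy0 (fun r hr => ?_) (hA.map_isLocalization q.primeCompl) d k hk
  rw [← Localization.AtPrime.map_eq_maximalIdeal] at hr
  refine Submodule.span_induction ?_ (zero_mul _) (fun a b _ _ ha hb => by rw [add_mul, ha, hb, add_zero])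
    (fun a b _ hb => by rw [smul_eq_mul, mul_assoc, hb, mul_zero]) hr
  rintro _ ⟨a, ha, rfl⟩
  rw [← map_mul]
  have : a * y = 0 := by
    have ha' : a ∈ q := ha
    rw [hy, Submodule.mem_colon_singleton, smul_eq_mul, Submodule.mem_bot] at ha'
    exact ha'
  rw [this, map_zero]

theorem minorIdeal_eq_bot {n : ℕ → ℕ} {e : ℕ} {A : (i : ℕ) → Matrix (Fin (n i)) (Fin (n (i + 1))) R}
    (hA : IsExactCx n e A) (d k : ℕ) (hk : k + d = e) (r : ℕ) (hr : rkAux n d k < r) :
    CAlgX.minorIdeal (A k) r = ⊥ := by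
  rw [CAlgX.minorIdeal, Ideal.span_eq_bot]
  rintro _ ⟨⟨F, G⟩, rfl⟩
  by_contra hne
  obtain ⟨q, hq, hle⟩ := exists_le_isAssociatedPrime_of_isNoetherianRing R (M := R) _ hne
  haveI := hq.isPrime
  let L := Localization.AtPrime q
  obtain ⟨f, g, -, hspan⟩ := good_at_ass hA q hq d k hk
  have h0 := minorIdeal_eq_bot_of_cols _ g hspan r hr
  have h1 : algebraMap R L ((A k).submatrix F G).det = 0 := by
    rw [det_submatrix_map]
    exact (Submodule.mem_bot _).1 (h0 ▸ McCoy.det_mem_minorIdeal _ F G)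
  obtain ⟨t, ht⟩ := (IsLocalization.map_eq_zero_iff q.primeCompl L _).1 h1
  refine t.2 (hle ?_)
  rw [Submodule.mem_colon_singleton, smul_eq_mul, ht]
  exact Submodule.zero_mem _

theorem exists_nonZeroDivisor_minor {n : ℕ → ℕ} {e : ℕ} {A : (i : ℕ) → Matrix (Fin (n i)) (Fin (n (i + 1))) R}
    (hA : IsExactCx n e A) (d k : ℕ) (hk : k + d = e) :
    ∃ x ∈ CAlgX.minorIdeal (A k) (rkAux n d k), x ∈ nonZeroDivisors R := by
  refine McCoy.exists_nonZeroDivisor (eq_bot_iff.2 fun a ha => ?_)
  rw [Ideal.mem_bot]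
  by_contra hne
  obtain ⟨q, hq, hle⟩ := exists_le_isAssociatedPrime_of_isNoetherianRing R (M := R) a hne
  haveI := hq.isPrime
  obtain ⟨f, g, hu, -⟩ := good_at_ass hA q hq d k hk
  rw [← det_submatrix_map] at hu
  have hmem : ((A k).submatrix f g).det ∈ q := hle (by
    rw [Submodule.mem_colon_singleton, Submodule.mem_bot, smul_eq_mul, mul_comm]
    exact Submodule.mem_annihilator.1 ha _ (McCoy.det_mem_minorIdeal _ f g))
  exact (IsLocalization.AtPrime.isUnit_to_map_iff (Localization.AtPrime q) q _).1 hu hmem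

theorem matrixRank_eq [Nontrivial R] {n : ℕ → ℕ} {e : ℕ} {A : (i : ℕ) → Matrix (Fin (n i)) (Fin (n (i + 1))) R}
    (hA : IsExactCx n e A) (d k : ℕ) (hk : k + d = e) : CAlgX.matrixRank (A k) = rkAux n d k := by
  obtain ⟨x, hx, hx'⟩ := exists_nonZeroDivisor_minor hA d k hk
  have hne : CAlgX.minorIdeal (A k) (rkAux n d k) ≠ ⊥ := fun h => by
    rw [h, Ideal.mem_bot] at hx
    exact nonZeroDivisors.ne_zero hx' hx
  have hb : ∀ r, CAlgX.minorIdeal (A k) r ≠ ⊥ → r ≤ rkAux n d k := fun r hr =>
    le_of_not_gt fun hlt => hr (minorIdeal_eq_bot hA d k hk r hlt)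
  exact le_antisymm (csSup_le ⟨_, hne⟩ hb) (le_csSup ⟨_, hb⟩ hne)

theorem le_of_exact [Nontrivial R] {n : ℕ → ℕ} {e : ℕ} {A : (i : ℕ) → Matrix (Fin (n i)) (Fin (n (i + 1))) R}
    (hA : IsExactCx n e A) (d k : ℕ) (hk : k + 1 + d = e) : rkAux n d (k + 1) ≤ n (k + 1) := by
  obtain ⟨x, hx, hx'⟩ := exists_nonZeroDivisor_minor hA d (k + 1) hk
  by_contra hlt
  have h0 : CAlgX.minorIdeal (A (k + 1)) (rkAux n d (k + 1)) = ⊥ := by
    rw [CAlgX.minorIdeal, Ideal.span_eq_bot]
    rintro _ ⟨⟨F, G⟩, rfl⟩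
    obtain ⟨i, j, hne, hij⟩ := Fintype.exists_ne_map_eq_of_card_lt F (by simpa using hlt)
    exact Matrix.det_zero_of_row_eq hne (by funext l; simp [hij])
  rw [h0, Ideal.mem_bot] at hx
  exact nonZeroDivisors.ne_zero hx' hx

omit [IsNoetherianRing R] in
theorem IsExactCx.mod_regular {n : ℕ → ℕ} {e : ℕ} {A : (i : ℕ) → Matrix (Fin (n i)) (Fin (n (i + 1))) R}
    (hA : IsExactCx n (e + 1) A) {x : R} (hx : IsSMulRegular R x) {T : Type u} [CommRing T] (π : R →+* T)
    (hπ : Function.Surjective π) (hker : RingHom.ker π = Ideal.span {x}) :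
    IsExactCx (fun i => n (i + 1)) e (fun i => (A (i + 1)).map π) := by
  refine ⟨fun i => ?_, ?_, fun k hk z hz => ?_⟩
  · rw [← Matrix.map_mul, hA.comp, Matrix.map_zero _ (map_zero π)]
  · rw [hA.top, Matrix.map_zero _ (map_zero π)]
  · choose z₀ hz₀ using fun i => hπ (z i)
    obtain rfl : π ∘ z₀ = z := funext hz₀
    have hw : ∀ i, ∃ w, (A (k + 1) *ᵥ z₀) i = x * w := fun i => by
      have : (A (k + 1) *ᵥ z₀) i ∈ RingHom.ker π := by
        rw [RingHom.mem_ker, RingHom.map_mulVec]; exact congrFun hz i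
      rw [hker, Ideal.mem_span_singleton'] at this
      obtain ⟨w, hw⟩ := this
      exact ⟨w, by rw [← hw, mul_comm]⟩
    choose w hw using hw
    have hwv : A (k + 1) *ᵥ z₀ = x • w := funext hw
    obtain ⟨v, hv⟩ := hA.ex k (by omega) w (funext fun i => hx (show x • (A k *ᵥ w) i = x • (0 : R) by
      rw [smul_zero, ← Pi.smul_apply, ← Matrix.mulVec_smul, ← hwv, Matrix.mulVec_mulVec, hA.comp, Matrix.zero_mulVec]
      rfl))
    obtain ⟨t, ht⟩ := hA.ex (k + 1) (by omega) (z₀ - x • v) (by
      rw [Matrix.mulVec_sub, Matrix.mulVec_smul, hv, hwv, sub_self])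
    refine ⟨π ∘ t, funext fun i => ?_⟩
    rw [← RingHom.map_mulVec, ht, Pi.sub_apply, map_sub, Pi.smul_apply, smul_eq_mul, map_mul,
      show π x = 0 from (RingHom.mem_ker (f := π)).1 (hker ▸ Ideal.mem_span_singleton_self x), zero_mul, sub_zero]
    rfl

/-- The depth condition on the determinantal ideals. -/
theorem exists_regular_sequence : ∀ (k : ℕ) (R : Type u) [CommRing R] [IsNoetherianRing R] [IsLocalRing R]
    (n : ℕ → ℕ) (e : ℕ) (A : (i : ℕ) → Matrix (Fin (n i)) (Fin (n (i + 1))) R),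
    IsExactCx n e A → ∀ d, k + d = e →
      CAlgX.minorIdeal (A k) (rkAux n d k) = ⊤ ∨
        ∃ rs : List R, rs.length = k + 1 ∧ (∀ r ∈ rs, r ∈ CAlgX.minorIdeal (A k) (rkAux n d k)) ∧
          RingTheory.Sequence.IsWeaklyRegular R rs := by
  intro k
  induction k with
  | zero =>
    intro R _ _ _ n e A hA d hd
    obtain ⟨x, hx, hx'⟩ := exists_nonZeroDivisor_minor hA d 0 hd
    exact Or.inr ⟨[x], rfl, fun r hr => (List.mem_singleton.1 hr).symm ▸ hx,
      (RingTheory.Sequence.isWeaklyRegular_singleton_iff R x).2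
        (isSMulRegular_iff_right_eq_zero_of_smul.2 fun y hy => (mem_nonZeroDivisors_iff.1 hx').1 y hy)⟩
  | succ k ih =>
    intro R _ _ _ n e A hA d hd
    rw [or_iff_not_imp_left]
    intro hI
    obtain ⟨x, hx, hx'⟩ := exists_nonZeroDivisor_minor hA d (k + 1) hd
    have hxr : IsSMulRegular R x :=
      isSMulRegular_iff_right_eq_zero_of_smul.2 fun y hy => (mem_nonZeroDivisors_iff.1 hx').1 y hy
    have hxm : x ∈ IsLocalRing.maximalIdeal R := IsLocalRing.le_maximalIdeal hI hx
    let T := R ⧸ Ideal.span {x}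
    haveI : Nontrivial T := Ideal.Quotient.nontrivial_iff.2 fun h =>
      (IsLocalRing.mem_maximalIdeal _).1 hxm (Ideal.span_singleton_eq_top.1 h)
    haveI : IsLocalRing T := IsLocalRing.of_surjective' (Ideal.Quotient.mk _) Ideal.Quotient.mk_surjective
    let π := Ideal.Quotient.mk (Ideal.span {x})
    obtain ⟨e', rfl⟩ : ∃ e', e = e' + 1 := ⟨e - 1, by omega⟩
    have key := ih T (fun i => n (i + 1)) e' (fun i => (A (i + 1)).map π)
      (hA.mod_regular hxr π Ideal.Quotient.mk_surjective Ideal.mk_ker) d (by omega)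
    rw [rkAux_shift] at key
    have himg : CAlgX.minorIdeal ((A (k + 1)).map π) (rkAux n d (k + 1)) =
        (CAlgX.minorIdeal (A (k + 1)) (rkAux n d (k + 1))).map π := by
      rw [CAlgX.minorIdeal, CAlgX.minorIdeal, Ideal.map_span, ← Set.range_comp]
      exact congrArg Ideal.span (congrArg Set.range (funext fun fg => (det_submatrix_map π _ fg.1 fg.2).symm))
    simp only [himg] at key
    rcases key with htop | ⟨rs, hlen, hmem, hreg⟩
    · refine absurd ?_ hI
      have := congrArg (Ideal.comap π) htop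
      rw [Ideal.comap_map_of_surjective π Ideal.Quotient.mk_surjective, Ideal.comap_top, ← RingHom.ker_eq_comap_bot,
        Ideal.mk_ker, sup_eq_left.2 (Ideal.span_singleton_le_iff_mem _ |>.2 hx)] at this
      exact this
    · choose lift hlift hπ using fun r : {r // r ∈ rs} =>
        (Ideal.mem_map_iff_of_surjective π Ideal.Quotient.mk_surjective).1 (hmem r.1 r.2)
      let ls := rs.attach.map lift
      have hls : ls.map π = rs := by
        rw [List.map_map, show π ∘ lift = Subtype.val from funext hπ, List.attach_map_subtype_val]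
      refine ⟨x :: ls, by simp [ls, hlen], ?_, ?_⟩
      · intro r hr
        rcases List.mem_cons.1 hr with rfl | hr
        · exact hx
        · obtain ⟨y, -, rfl⟩ := List.mem_map.1 hr
          exact hlift y
      · refine RingTheory.Sequence.IsWeaklyRegular.cons hxr ?_
        have h1 : RingTheory.Sequence.IsWeaklyRegular T ls :=
          (RingTheory.Sequence.isWeaklyRegular_map_algebraMap_iff T T ls).1 (by
            rw [show algebraMap R T = π from rfl, hls]; exact hreg)
        refine (LinearEquiv.isWeaklyRegular_congr (Submodule.quotEquivOfEq _ _ ?_) ls).2 h1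
        rw [← Submodule.ideal_span_singleton_smul, smul_eq_mul, Ideal.mul_top]

end Groth.Agent.BEForward
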